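import Groth.Agent.Lib.FibRank28.Alg
import Groth.Agent.Lib.Miracle4
import Groth.Agent.Lib.Depth.CM
import Groth.Agent.Lib.Weight4.GeomSum
import Groth.Agent.Lib.DimF18.Prod
import Groth.Agent.Lib.CohFound.FiniteFibre
import Groth.Agent.Lib.GenFin12.Basic
import Groth.Agent.Lib.FinQuot.Invariant
import Groth.Agent.Lib.AlgSpDescent.SchemeSource
import Groth.Agent.Lib.PureSmooth29.EssFreeBasic

set_option autoImplicit false
set_option backward.isDefEq.respectTransparency false
set_option backward.isDefEq.respectTransparency.types false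
set_option linter.style.haveILetI false

universe u

open CategoryTheory CategoryTheory.Limits AlgebraicGeometry TensorProduct Order

noncomputable section

namespace Groth.Agent.FibRank28

open Groth.Agent.VarDim Groth.Agent.DimF18

variable {k : Type u} [Field k] {X Y : Scheme.{u}}

theorem coheight_add_sdim (f : X ⟶ Spec (CommRingCat.of k)) [LocallyOfFiniteType f] [IrreducibleSpace X] (x : X) :
    ∃ a : ℕ, Order.coheight x = (a : ℕ∞) ∧ a + sdim f x = sdim f (genericPoint X) := by
  haveI : IsLocallyNoetherian X := LocallyOfFiniteType.isLocallyNoetherian f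
  obtain ⟨a, ha⟩ := ENat.ne_top_iff_exists.1 (coheight_ne_top x)
  refine ⟨a, ha.symm, le_antisymm ?_ ?_⟩
  · obtain ⟨z, -, hz⟩ := exists_generization_sdim f ha.symm
    have : sdim f z ≤ sdim f (genericPoint X) := by
      by_cases he : genericPoint X = z
      · rw [he]
      · exact (sdim_lt_of_specializes f (genericPoint_specializes z) he).le
    omega
  · have h := sdim_le_add_coheight f (genericPoint_specializes x)
    rw [← ha] at h
    have : sdim f (genericPoint X) ≤ sdim f x + a := by exact_mod_cast h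
    omega

theorem sdim_comp_of_quasiFiniteAt (p : Y ⟶ Spec (CommRingCat.of k)) [LocallyOfFiniteType p] (f : X ⟶ Y)
    [LocallyOfFiniteType f] {x : X} (hx : f.QuasiFiniteAt x) : sdim (f ≫ p) x = sdim p (f x) := by
  rw [sdim_comp_eq p f x]
  letI := (f.residueFieldMap x).hom.toAlgebra
  haveI : Module.Finite (Y.residueField (f x)) (X.residueField x) :=
    RingHom.finite_algebraMap.mp (Weight.finite_residueFieldMap f x hx)
  haveI : Algebra.IsAlgebraic (Y.residueField (f x)) (X.residueField x) := inferInstance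
  rw [tdeg, trdeg_eq_zero (R := Y.residueField (f x)) (A := X.residueField x), map_zero, add_zero]

theorem flat_stalkMap (p : Y ⟶ Spec (CommRingCat.of k)) [LocallyOfFiniteType p] (f : X ⟶ Y) [LocallyOfFiniteType f]
    [IrreducibleSpace X] [IrreducibleSpace Y] (hdim : topologicalKrullDim X = topologicalKrullDim Y)
    {x : X} (hx : f.QuasiFiniteAt x) (hX : IsRegularLocalRing (X.presheaf.stalk x))
    (hY : IsRegularLocalRing (Y.presheaf.stalk (f x))) : (f.stalkMap x).hom.Flat := by
  haveI : LocCoh.IsCohenMacaulayLocalRing (X.presheaf.stalk x) :=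
    DepthLib.isCohenMacaulayLocalRing_of_isRegularLocalRing
  letI := (f.stalkMap x).hom.toAlgebra
  haveI : IsLocalHom (algebraMap (Y.presheaf.stalk (f x)) (X.presheaf.stalk x)) :=
    inferInstanceAs (IsLocalHom (f.stalkMap x).hom)
  refine Miracle4.flat_of_ringKrullDim_eq ?_
  let m := IsLocalRing.maximalIdeal (Y.presheaf.stalk (f x))
  let C := X.presheaf.stalk x ⧸ m.map (algebraMap _ (X.presheaf.stalk x))
  haveI : Algebra.QuasiFinite (Y.presheaf.stalk (f x)) (X.presheaf.stalk x) := hx
  haveI : Algebra.QuasiFinite (Y.presheaf.stalk (f x)) C :=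
    Algebra.QuasiFinite.of_surjective_algHom (Ideal.Quotient.mkₐ _ _) Ideal.Quotient.mk_surjective
  haveI : Algebra.QuasiFinite (Y.presheaf.stalk (f x) ⧸ m) C :=
    Algebra.QuasiFinite.of_restrictScalars (Y.presheaf.stalk (f x)) _ _
  letI : Field (Y.presheaf.stalk (f x) ⧸ m) := Ideal.Quotient.field m
  haveI : Module.Finite (Y.presheaf.stalk (f x) ⧸ m) C := Module.Finite.of_quasiFinite
  haveI : IsArtinianRing C := IsArtinianRing.of_finite (Y.presheaf.stalk (f x) ⧸ m) C
  haveI : Nontrivial C := Ideal.Quotient.nontrivial_iff.2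
    (ne_top_of_le_ne_top (IsLocalRing.maximalIdeal.isMaximal _).ne_top
      (Ideal.map_le_iff_le_comap.2 fun a ha => map_nonunit (algebraMap (Y.presheaf.stalk (f x)) (X.presheaf.stalk x)) a ha))
  rw [show ringKrullDim C = 0 from ringKrullDimZero_iff_ringKrullDim_eq_zero.1 (inferInstance : Ring.KrullDimLE 0 C), add_zero,
    ringKrullDim_stalk_eq_coheight, ringKrullDim_stalk_eq_coheight]
  obtain ⟨a, ha, ea⟩ := coheight_add_sdim (f ≫ p) x
  obtain ⟨b, hb, eb⟩ := coheight_add_sdim p (f x)
  rw [ha, hb]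
  rw [dim_eq_sdim_genericPoint (f ≫ p), dim_eq_sdim_genericPoint p] at hdim
  have hd : sdim (f ≫ p) (genericPoint X) = sdim p (genericPoint Y) := by exact_mod_cast hdim
  rw [sdim_comp_of_quasiFiniteAt p f hx] at ea
  rw [show a = b by omega]

theorem fromSpecResidueField_appLE (y : Y) (V : Y.Opens) (hyV : y ∈ V) (e : ⊤ ≤ Y.fromSpecResidueField y ⁻¹ᵁ V) :
    (Y.fromSpecResidueField y).appLE V ⊤ e = Y.evaluation V y hyV ≫ (Scheme.ΓSpecIso _).inv := by
  rw [Scheme.Hom.appLE]
  simp only [Scheme.fromSpecResidueField, Scheme.Hom.comp_app, Scheme.fromSpecStalk_app hyV, Category.assoc]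
  rw [Scheme.evaluation, Category.assoc, Scheme.ΓSpecIso_inv_naturality (Y.residue y), Scheme.Hom.appTop]
  simp only [Category.assoc, Scheme.Hom.naturality_assoc, ← Functor.map_comp, ← op_comp]
  rfl

theorem appLE_congr_hom {f g : X ⟶ Y} (h : f = g) (V : Y.Opens) (U : X.Opens) (e : U ≤ f ⁻¹ᵁ V) :
    f.appLE V U e = g.appLE V U (h ▸ e) := by subst h; rfl

theorem main (p : Y ⟶ Spec (CommRingCat.of k)) [LocallyOfFiniteType p] (f : X ⟶ Y) [LocallyOfFiniteType f]
    [IsIntegral X] [IsIntegral Y] [IsDominant f] [IsSeparated f]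
    (hdim : topologicalKrullDim X = topologicalKrullDim Y)
    (hX : ∀ x : X, IsRegularLocalRing (X.presheaf.stalk x)) (hY : ∀ y : Y, IsRegularLocalRing (Y.presheaf.stalk y))
    (y : Y) (hy : IsFinite (pullback.snd f (Y.fromSpecResidueField y))) :
    (letI := ((Scheme.ΓSpecIso (CommRingCat.of (Y.residueField y))).inv ≫
            (pullback.snd f (Y.fromSpecResidueField y)).appTop).hom.toAlgebra;
          Module.finrank (Y.residueField y) ↑(Γ(pullback f (Y.fromSpecResidueField y), ⊤))) ≤
      (letI := (f.residueFieldMap (genericPoint ↥X)).hom.toAlgebra;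
          Module.finrank (Y.residueField (f.base (genericPoint ↥X))) (X.residueField (genericPoint ↥X))) := by
  classical
  set F := pullback f (Y.fromSpecResidueField y)
  set s := pullback.snd f (Y.fromSpecResidueField y)
  set i := pullback.fst f (Y.fromSpecResidueField y)
  have hrange : Set.range i = f ⁻¹' {y} := by
    rw [Scheme.Pullback.range_fst, Scheme.range_fromSpecResidueField]
  have hfin : (f ⁻¹' {y}).Finite := by
    haveI : Finite F := by
      haveI := hy
      rw [← Set.finite_univ_iff]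
      refine (s.finite_preimage (Set.toFinite (Set.univ : Set (Spec (CommRingCat.of (Y.residueField y)))))).subset ?_
      simp
    rw [← hrange]; exact Set.finite_range _
  by_cases hemp : f ⁻¹' {y} = ∅
  · haveI : IsEmpty F := ⟨fun z => by
      have : i z ∈ f ⁻¹' {y} := hrange ▸ ⟨z, rfl⟩
      rwa [hemp] at this⟩
    haveI : Subsingleton Γ(F, ⊤) := inferInstance
    letI : Algebra (Y.residueField y) Γ(F, ⊤) :=
      ((Scheme.ΓSpecIso (CommRingCat.of (Y.residueField y))).inv ≫ s.appTop).hom.toAlgebra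
    exact le_trans (le_of_eq Module.finrank_zero_of_subsingleton) (Nat.zero_le _)
  have hqf : ∀ x, f x = y → f.QuasiFiniteAt x := fun x hx =>
    CohFound.quasiFiniteAt_of_finite_fibre f x (hx ▸ hfin)
  obtain ⟨V, hV, hyV, -⟩ := exists_isAffineOpen_mem_and_subset (X := Y) (U := ⊤) (x := y) trivial
  let U : X.Opens := f.quasiFiniteLocus ⊓ f ⁻¹ᵁ V
  haveI : IsAffine V.toScheme := hV
  let g := f.resLE V U inf_le_right
  haveI : LocallyQuasiFinite g := by
    rw [← Scheme.Hom.quasiFiniteLocus_eq_top_iff]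
    rw [eq_top_iff]
    intro z _
    show g.QuasiFiniteAt z
    have h1 : f.QuasiFiniteAt (U.ι z) := (show z.1 ∈ U from z.2).1
    rw [← Scheme.Hom.quasiFiniteAt_comp_iff_of_isOpenImmersion (f := U.ι) (g := f), ← Scheme.Hom.resLE_comp_ι f inf_le_right,
      Scheme.Hom.quasiFiniteAt_comp_iff] at h1
    exact h1
  obtain ⟨W', hW', hEW⟩ := FinQuot.exists_affine_of_finite g (E := U.ι ⁻¹' (f ⁻¹' {y}))
    (hfin.preimage U.ι.isOpenEmbedding.injective.injOn)
  let W : X.Opens := U.ι ''ᵁ W'
  have hW : IsAffineOpen W := hW'.image_of_isOpenImmersion U.ι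
  have hWU : W ≤ U := U.ι_image_le W'
  have hWV : W ≤ f ⁻¹ᵁ V := hWU.trans inf_le_right
  have hEW' : ∀ x, f x = y → x ∈ W := fun x hx => by
    have hxU : x ∈ U := ⟨hqf x hx, show f x ∈ V from hx ▸ hyV⟩
    exact ⟨⟨x, hxU⟩, hEW hx, rfl⟩
  obtain ⟨x₀, hx₀⟩ := Set.nonempty_iff_ne_empty.2 hemp
  haveI : Nonempty W := ⟨⟨x₀, hEW' x₀ hx₀⟩⟩
  haveI : Nonempty V := ⟨⟨y, hyV⟩⟩
  haveI : IsAffine W.toScheme := hW
  have hξW : genericPoint X ∈ W := ((genericPoint_spec X).mem_open_set_iff W.isOpen).mpr
    (by simpa using (inferInstance : Nonempty W))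
  let φ := f.appLE V W hWV
  letI := φ.hom.toAlgebra
  letI := (Y.evaluation V y hyV).hom.toAlgebra
  letI algB : Algebra (Y.residueField y) Γ(F, ⊤) :=
    ((Scheme.ΓSpecIso (CommRingCat.of (Y.residueField y))).inv ≫ s.appTop).hom.toAlgebra
  have hiW : ⊤ ≤ i ⁻¹ᵁ W := fun z _ => hEW' _ (hrange.subset ⟨z, rfl⟩)
  letI := (i.appLE W ⊤ hiW).hom.toAlgebra
  letI : Algebra Γ(Y, V) Γ(F, ⊤) := ((i.appLE W ⊤ hiW).hom.comp φ.hom).toAlgebra
  haveI : IsScalarTower Γ(Y, V) Γ(X, W) Γ(F, ⊤) := IsScalarTower.of_algebraMap_eq' rfl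
  haveI : IsScalarTower Γ(Y, V) (Y.residueField y) Γ(F, ⊤) := IsScalarTower.of_algebraMap_eq' (by
    have e0 : ⊤ ≤ Y.fromSpecResidueField y ⁻¹ᵁ V := fun z _ => by
      show Y.fromSpecResidueField y z ∈ V
      rwa [Scheme.fromSpecResidueField_apply]
    have e : f.appLE V W hWV ≫ i.appLE W ⊤ hiW =
        (Y.evaluation V y hyV ≫ (Scheme.ΓSpecIso _).inv) ≫ s.appTop := by
      rw [← fromSpecResidueField_appLE y V hyV e0, Scheme.Hom.appLE_comp_appLE, Scheme.Hom.appTop,
        Scheme.Hom.app_eq_appLE, Scheme.Hom.appLE_comp_appLE]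
      exact appLE_congr_hom pullback.condition _ _ _
    exact congrArg CommRingCat.Hom.hom (e.trans (Category.assoc _ _ _)))
  have hspan : Submodule.span (Y.residueField y) (Set.range (algebraMap Γ(X, W) Γ(F, ⊤))) = ⊤ := by
    let mW : F ⟶ W.toScheme := IsOpenImmersion.lift W.ι i (by
      rw [Scheme.Opens.range_ι, hrange]; exact fun z hz => hEW' z hz)
    have hmW : mW ≫ W.ι = i := IsOpenImmersion.lift_fac _ _ _
    let jy : Spec (CommRingCat.of (Y.residueField y)) ⟶ V.toScheme :=
      IsOpenImmersion.lift V.ι (Y.fromSpecResidueField y) (by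
        rw [Scheme.Opens.range_ι]; rintro _ ⟨z, rfl⟩; erw [Scheme.fromSpecResidueField_apply]; exact hyV)
    have hjy : jy ≫ V.ι = Y.fromSpecResidueField y := IsOpenImmersion.lift_fac _ _ _
    let gW := f.resLE V W hWV
    have hgW : gW ≫ V.ι = W.ι ≫ f := Scheme.Hom.resLE_comp_ι _ _
    have hw : mW ≫ gW = s ≫ jy := by
      rw [← cancel_mono V.ι, Category.assoc, Category.assoc, hgW, hjy, reassoc_of% hmW]
      exact pullback.condition
    have sq : IsPullback mW s gW jy := by
      have hc : ∀ c : PullbackCone gW jy, (c.fst ≫ W.ι) ≫ f = c.snd ≫ Y.fromSpecResidueField y := fun c => by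
        rw [Category.assoc, ← hgW, ← hjy, ← Category.assoc, ← Category.assoc, c.condition]
      refine IsPullback.of_isLimit (c := PullbackCone.mk mW s hw) (PullbackCone.IsLimit.mk hw
        (fun c => pullback.lift (c.fst ≫ W.ι) c.snd (hc c)) (fun c => ?_) (fun c => pullback.lift_snd _ _ _)
        fun c l h1 h2 => pullback.hom_ext ?_ ?_)
      · rw [← cancel_mono W.ι, Category.assoc, hmW]; exact pullback.lift_fst _ _ _
      · rw [pullback.lift_fst, ← h1, Category.assoc, hmW]
      · rw [pullback.lift_snd, ← h2]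
    have hP := isPushout_appTop_of_isPullback sq
    have him : ∀ a : Γ(W.toScheme, ⊤), mW.appTop a = i.appLE W ⊤ hiW (W.topIso.hom a) := fun a => by
      have e : i.appLE W ⊤ hiW = W.topIso.inv ≫ mW.appTop := by
        rw [appLE_congr_hom hmW.symm, ← Scheme.Hom.appLE_comp_appLE mW W.ι W ⊤ ⊤ (by simp) (by simp)]
        congr 1
        · rw [Scheme.Opens.ι_appLE]
          rfl
        · rw [Scheme.Hom.appTop, Scheme.Hom.app_eq_appLE]
          rfl
      rw [e, ← ConcreteCategory.comp_apply, Iso.hom_inv_id_assoc]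
    algebraize [gW.appTop.hom, jy.appTop.hom, mW.appTop.hom, s.appTop.hom, mW.appTop.hom.comp gW.appTop.hom]
    haveI : IsScalarTower Γ(V.toScheme, ⊤) Γ(Spec (CommRingCat.of (Y.residueField y)), ⊤) Γ(F, ⊤) :=
      .of_algebraMap_eq' <| congr($(hP.1.1).hom)
    have h1 : Algebra.IsPushout Γ(V.toScheme, ⊤) Γ(W.toScheme, ⊤) Γ(Spec (CommRingCat.of (Y.residueField y)), ⊤) Γ(F, ⊤) :=
      CommRingCat.isPushout_iff_isPushout.mp hP
    rw [eq_top_iff]
    intro b _
    refine IsBaseChange.inductionOn h1.symm.out b _ (Submodule.zero_mem _) (fun a => ?_) (fun r x hx => ?_)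
      (fun _ _ ha hb => Submodule.add_mem _ ha hb)
    · refine Submodule.subset_span ⟨W.topIso.hom a, ?_⟩
      exact (him a).symm
    · obtain ⟨c, rfl⟩ := ((ConcreteCategory.isIso_iff_bijective (Scheme.ΓSpecIso (CommRingCat.of (Y.residueField y))).inv).1 inferInstance).2 r
      rw [Algebra.smul_def]
      have : s.appTop ((Scheme.ΓSpecIso (CommRingCat.of (Y.residueField y))).inv c) * x = c • x := (Algebra.smul_def c x).symm
      show s.appTop _ * x ∈ _
      rw [this]
      exact Submodule.smul_mem _ _ hx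
  let P : {x : X // f x = y} → Ideal Γ(X, W) := fun x => (hW.primeIdealOf ⟨x.1, hEW' _ x.2⟩).asIdeal
  haveI : Finite {x : X // f x = y} := hfin.to_subtype
  have hfs : ∀ q : PrimeSpectrum Γ(X, W), f (hW.fromSpec q) = hV.fromSpec (PrimeSpectrum.comap φ.hom q) :=
    fun q => by
      rw [← Scheme.Hom.comp_apply, ← IsAffineOpen.SpecMap_appLE_fromSpec f hV hW hWV, Scheme.Hom.comp_apply]
      rfl
  obtain ⟨n, e, hn, he⟩ := exists_linearIndependent_fibre (hV.primeIdealOf ⟨y, hyV⟩).asIdeal
    (VarDim.ker_evaluation hV y hyV) P (fun Q hQ hQy => by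
      have hq : f (hW.fromSpec ⟨Q, hQ⟩) = y := by
        rw [hfs, show PrimeSpectrum.comap φ.hom ⟨Q, hQ⟩ = hV.primeIdealOf ⟨y, hyV⟩ from PrimeSpectrum.ext hQy,
          hV.fromSpec_primeIdealOf]
      refine ⟨⟨_, hq⟩, ?_⟩
      exact congrArg PrimeSpectrum.asIdeal (hW.fromSpec.isOpenEmbedding.injective (hW.fromSpec_primeIdealOf ⟨hW.fromSpec ⟨Q, hQ⟩, hEW' _ hq⟩)))
    (fun x => by
      obtain ⟨x, hx⟩ := x
      subst hx
      letI := TopCat.Presheaf.algebra_section_stalk X.presheaf (⟨x, hEW' _ rfl⟩ : W)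
      haveI := hW.isLocalization_stalk ⟨x, hEW' _ rfl⟩
      letI := TopCat.Presheaf.algebra_section_stalk Y.presheaf (⟨f x, hyV⟩ : V)
      haveI := hV.isLocalization_stalk ⟨f x, hyV⟩
      letI : Algebra Γ(Y, V) (X.presheaf.stalk x) :=
        ((algebraMap Γ(X, W) (X.presheaf.stalk x)).comp φ.hom).toAlgebra
      haveI : IsScalarTower Γ(Y, V) Γ(X, W) (X.presheaf.stalk x) := IsScalarTower.of_algebraMap_eq' rfl
      have hflat : (algebraMap Γ(Y, V) (X.presheaf.stalk x)).Flat := by
        have e : algebraMap Γ(Y, V) (X.presheaf.stalk x) =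
            (f.stalkMap x).hom.comp (algebraMap Γ(Y, V) (Y.presheaf.stalk (f x))) := by
          show (f.appLE V W hWV ≫ X.presheaf.germ W x (hEW' _ rfl)).hom =
            (Y.presheaf.germ V (f x) hyV ≫ f.stalkMap x).hom
          rw [Scheme.Hom.germ_stalkMap, Scheme.Hom.appLE, Category.assoc, TopCat.Presheaf.germ_res]
        rw [e]
        exact RingHom.Flat.comp (RingHom.flat_algebraMap_iff.2
          (IsLocalization.flat _ (hV.primeIdealOf ⟨f x, hyV⟩).asIdeal.primeCompl))
          (flat_stalkMap p f hdim (hqf x rfl) (hX x) (hY _))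
      haveI : Module.Flat Γ(Y, V) (X.presheaf.stalk x) := RingHom.flat_algebraMap_iff.1 hflat
      exact Module.Flat.of_linearEquiv ((IsLocalization.algEquiv (P ⟨x, rfl⟩).primeCompl
        (Localization.AtPrime (P ⟨x, rfl⟩)) (X.presheaf.stalk x)).restrictScalars Γ(Y, V)).toLinearEquiv) hspan
  refine hn.trans ?_
  letI := (f.residueFieldMap (genericPoint ↥X)).hom.toAlgebra
  haveI : Module.Finite (Y.residueField (f (genericPoint X))) (X.residueField (genericPoint X)) :=
    RingHom.finite_algebraMap.mp (Weight.finite_residueFieldMap f _ (hWU hξW).1)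
  have hηV : f (genericPoint X) ∈ V := hWV hξW
  letI := (Y.evaluation V (f (genericPoint X)) hηV).hom.toAlgebra
  letI := (X.evaluation W (genericPoint X) hξW).hom.toAlgebra
  letI : Algebra Γ(Y, V) (X.residueField (genericPoint X)) :=
    ((algebraMap (Y.residueField (f (genericPoint X))) (X.residueField (genericPoint X))).comp
      (Y.evaluation V (f (genericPoint X)) hηV).hom).toAlgebra
  haveI : IsScalarTower Γ(Y, V) (Y.residueField (f (genericPoint X))) (X.residueField (genericPoint X)) :=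
    IsScalarTower.of_algebraMap_eq' rfl
  haveI : IsScalarTower Γ(Y, V) Γ(X, W) (X.residueField (genericPoint X)) := IsScalarTower.of_algebraMap_eq' (by
    show (Y.evaluation V _ hηV ≫ f.residueFieldMap (genericPoint X)).hom =
      (f.appLE V W hWV ≫ X.evaluation W _ hξW).hom
    rw [Scheme.evaluation, Scheme.evaluation, Category.assoc, Scheme.residue_residueFieldMap,
      Scheme.Hom.germ_stalkMap_assoc, Scheme.Hom.appLE, Category.assoc, TopCat.Presheaf.germ_res_assoc])
  have hinj : ∀ {Z : Scheme.{u}} [IsIntegral Z] (O : Z.Opens) (z : Z) (hz : z ∈ O), z = genericPoint Z →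
      Function.Injective (Z.evaluation O z hz) := by
    intro Z _ O z hz hzg
    subst hzg
    exact (RingHom.injective (Z.residue (genericPoint Z)).hom).comp (germ_injective_of_isIntegral Z _ hz)
  haveI : FaithfulSMul Γ(Y, V) (Y.residueField (f (genericPoint X))) :=
    (faithfulSMul_iff_algebraMap_injective _ _).2 (hinj V _ hηV (GenFin12.apply_genericPoint f))
  haveI : IsFractionRing Γ(Y, V) (Y.residueField (f (genericPoint X))) := IsFractionRing.of_field _ _ fun z => by
    obtain ⟨a, b, h⟩ := VarDim.exists_evaluation_eq_div hV _ hηV z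
    exact ⟨a, b, h⟩
  have hli : LinearIndependent Γ(Y, V) fun j => algebraMap Γ(X, W) (X.residueField (genericPoint X)) (e j) :=
    he.map' (IsScalarTower.toAlgHom Γ(Y, V) Γ(X, W) (X.residueField (genericPoint X))).toLinearMap
      (LinearMap.ker_eq_bot.2 (hinj W _ hξW rfl))
  rw [LinearIndependent.iff_fractionRing Γ(Y, V) (Y.residueField (f (genericPoint X)))] at hli
  exact le_trans (le_of_eq (Fintype.card_fin n).symm) hli.fintype_card_le_finrank

end Groth.Agent.FibRank28
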