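import Mathlib.RingTheory.LocalRing.Module
import Mathlib.RingTheory.Flat.Stability
import Mathlib.RingTheory.Flat.Basic
import Mathlib.RingTheory.LocalRing.ResidueField.Ideal
import Mathlib.RingTheory.Localization.BaseChange
import Mathlib.LinearAlgebra.Dimension.Constructions
import Mathlib.LinearAlgebra.TensorProduct.Tower
import Mathlib.RingTheory.TensorProduct.Maps
import Mathlib.Algebra.Algebra.Pi

set_option autoImplicit false
universe u

open TensorProduct IsLocalRing

namespace Groth.Agent.FibRank28

theorem exists_linearIndependent_fibre {R A κ B : Type u} [CommRing R] [IsDomain R] [CommRing A] [Algebra R A]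
    [Field κ] [Algebra R κ] [CommRing B] [Algebra κ B] [Algebra A B] [Algebra R B] [IsScalarTower R A B]
    [IsScalarTower R κ B] (p : Ideal R) [p.IsPrime] (hp : RingHom.ker (algebraMap R κ) = p)
    {ι : Type u} [Finite ι] (P : ι → Ideal A) [∀ i, (P i).IsPrime]
    (hP : ∀ Q : Ideal A, Q.IsPrime → Q.comap (algebraMap R A) = p → ∃ i, P i = Q)
    (hflat : ∀ i, Module.Flat R (Localization.AtPrime (P i)))
    (hspan : Submodule.span κ (Set.range (algebraMap A B)) = ⊤) :
    ∃ (n : ℕ) (e : Fin n → A), Module.finrank κ B ≤ n ∧ LinearIndependent R e := by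
  classical
  obtain ⟨s, hs, hspan', hli⟩ := exists_linearIndependent κ (Set.range (algebraMap A B))
  rw [hspan] at hspan'
  by_cases hfin : s.Finite
  swap
  · refine ⟨0, ![], le_of_eq (Module.finrank_of_not_finite fun h => hfin ?_), linearIndependent_empty_type⟩
    exact LinearIndependent.setFinite hli
  haveI := hfin.fintype
  let σ : Fin (Fintype.card s) ≃ s := (Fintype.equivFin s).symm
  choose e he using fun j => hs (σ j).2
  have hb : LinearIndependent κ fun j => algebraMap A B (e j) := by
    simp only [he]; exact hli.comp σ σ.injective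
  refine ⟨Fintype.card s, e, le_of_eq ?_, ?_⟩
  · rw [← finrank_top κ B, ← hspan', finrank_span_set_eq_card hli, Set.toFinset_card]
  haveI := Fintype.ofFinite ι
  let M := ∀ i, Localization.AtPrime (P i)
  let v : Fin (Fintype.card s) → M := fun j => algebraMap A M (e j)
  haveI : Module.Flat R M := Module.Flat.of_linearEquiv (DFinsupp.linearEquivFunOnFintype (R := R)).symm
  let k := p.ResidueField
  let χ : k →+* κ := Ideal.ResidueField.lift p (algebraMap R κ) hp.ge fun r hr => by
    show IsUnit (algebraMap R κ r)
    exact IsUnit.mk0 _ fun h => hr (hp ▸ h)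
  let χa : k →ₐ[R] κ :=
    { χ with commutes' := fun r => Ideal.ResidueField.lift_algebraMap _ _ _ _ r }
  have hk : LinearIndependent k fun j => (1 : k) ⊗ₜ[R] v j := by
    rw [Fintype.linearIndependent_iff]
    intro c hc
    let b : B := ∑ j, algebraMap κ B (χ (c j)) * algebraMap A B (e j)
    have hb0 : b = 0 := by
      by_contra hne
      let J : Ideal B := (⊥ : Ideal B).colon {b}
      have hJ : J ≠ ⊤ := fun h => hne (by
        have : (1 : B) ∈ J := h ▸ Submodule.mem_top
        simpa [J, Submodule.mem_colon_singleton] using this)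
      obtain ⟨Q, hQ, hJQ⟩ := Ideal.exists_le_maximal J hJ
      obtain ⟨i, hi⟩ := hP (Q.comap (algebraMap A B)) inferInstance (by
        rw [Ideal.comap_comap, ← IsScalarTower.algebraMap_eq, IsScalarTower.algebraMap_eq R κ B,
          ← Ideal.comap_comap]
        have h0 : Q.comap (algebraMap κ B) = ⊥ :=
          (Ideal.eq_bot_or_top _).resolve_right (Ideal.comap_ne_top _ hQ.ne_top)
        rw [h0, ← RingHom.ker_eq_comap_bot, hp])
      let S := Algebra.algebraMapSubmonoid B (P i).primeCompl
      let g : A →ₐ[R] Localization S := (IsScalarTower.toAlgHom R B (Localization S)).comp (IsScalarTower.toAlgHom R A B)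
      let θ : Localization.AtPrime (P i) →ₐ[R] Localization S :=
        IsLocalization.liftAlgHom (M := (P i).primeCompl) (f := g) fun t =>
          IsLocalization.map_units (Localization S) (⟨algebraMap A B t.1, Algebra.mem_algebraMapSubmonoid_of_mem t⟩ : S)
      let Φ : k ⊗[R] M →ₐ[R] Localization S := Algebra.TensorProduct.lift
        (((IsScalarTower.toAlgHom R B (Localization S)).comp (IsScalarTower.toAlgHom R κ B)).comp χa)
        (θ.comp (Pi.evalAlgHom R (fun i => Localization.AtPrime (P i)) i)) (fun _ _ => .all _ _)
      have h0 : algebraMap B (Localization S) b = 0 := by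
        rw [← map_zero Φ, ← hc]
        simp only [b, map_sum, map_mul, TensorProduct.smul_tmul', smul_eq_mul, mul_one]
        refine Finset.sum_congr rfl fun j _ => ?_
        simp [Φ, θ, g, v, χa]
        congr 1
        refine Eq.symm ?_
        exact IsLocalization.lift_eq (M := (P i).primeCompl) (S := Localization.AtPrime (P i)) (g := g.toRingHom) (fun t => IsLocalization.map_units (Localization S) (⟨algebraMap A B t.1, Algebra.mem_algebraMapSubmonoid_of_mem t⟩ : S)) (e j)
      obtain ⟨⟨_, t, ht, rfl⟩, ht0⟩ := (IsLocalization.map_eq_zero_iff S _ _).1 h0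
      apply ht
      rw [hi]
      exact hJQ (by simpa [J, Submodule.mem_colon_singleton] using ht0)
    have := Fintype.linearIndependent_iff.1 hb (fun j => χ (c j)) (by simpa [b, Algebra.smul_def] using hb0)
    exact fun j => (map_eq_zero χ).1 (this j)
  let Rp := Localization.AtPrime p
  let can := TensorProduct.AlgebraTensorModule.cancelBaseChange R Rp k k M
  have hRp : LinearIndependent Rp fun j => (1 : Rp) ⊗ₜ[R] v j := by
    refine Module.IsLocalRing.linearIndependent_of_flat _ ?_
    refine LinearIndependent.of_comp can.toLinearMap ?_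
    simpa [can, Function.comp_def] using hk
  rw [Fintype.linearIndependent_iff]
  intro r hr j
  refine IsLocalization.injective Rp p.primeCompl_le_nonZeroDivisors ?_
  rw [map_zero]
  refine Fintype.linearIndependent_iff.1 hRp (fun j => algebraMap R Rp (r j)) ?_ j
  have : ∑ j, r j • v j = 0 := by
    rw [← map_zero (IsScalarTower.toAlgHom R A M), ← hr, map_sum]
    exact Finset.sum_congr rfl fun j _ => (map_smul (IsScalarTower.toAlgHom R A M) _ _).symm
  simp only [algebraMap_smul, ← TensorProduct.tmul_smul, ← TensorProduct.tmul_sum, this, TensorProduct.tmul_zero]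

end Groth.Agent.FibRank28
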